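import Mathlib

set_option autoImplicit false

namespace Cfsg.Agent.Lib.Helper63

open MulAction

variable {G Ω : Type*} [Group G] [MulAction G Ω]

theorem burnside_card [Fintype G] [Finite Ω] :
    ∑ g : G, Nat.card (fixedBy Ω g) = Nat.card (orbitRel.Quotient G Ω) * Nat.card G := by
  classical
  have := Fintype.ofFinite Ω
  have : Fintype (orbitRel.Quotient G Ω) := Fintype.ofFinite _
  have : ∀ g : G, Fintype (fixedBy Ω g) := fun g => Fintype.ofFinite _
  have h := sum_card_fixedBy_eq_card_orbits_mul_card_group G Ω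
  simpa [Nat.card_eq_fintype_card] using h

theorem burnside_card_subgroup [Fintype G] [Finite Ω] (D : Subgroup G) [DecidablePred (· ∈ D)] :
    ∑ g ∈ Finset.univ.filter (· ∈ D), Nat.card (fixedBy Ω g) =
      Nat.card (orbitRel.Quotient D Ω) * Nat.card D := by
  classical
  rw [← burnside_card (G := D) (Ω := Ω)]
  rw [Finset.sum_subtype (p := (· ∈ D)) (Finset.univ.filter (· ∈ D)) (by simp)
    (fun g => Nat.card (fixedBy Ω g))]
  rfl

theorem card_fixedBy_prod (g : G) :
    Nat.card (fixedBy (Ω × Ω) g) = Nat.card (fixedBy Ω g) ^ 2 := by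
  have h : fixedBy (Ω × Ω) g = fixedBy Ω g ×ˢ fixedBy Ω g := by
    ext ⟨a, b⟩
    simp [Prod.ext_iff]
  rw [h, Nat.card_congr (Equiv.Set.prod _ _), Nat.card_prod, sq]

/-- The subgroup generated by the derangements. -/
abbrev derSub (G Ω : Type*) [Group G] [MulAction G Ω] : Subgroup G :=
  Subgroup.closure {g : G | ∀ ω : Ω, g • ω ≠ ω}

theorem derSub_normal : (derSub G Ω).Normal := by
  constructor
  intro n hn g
  induction hn using Subgroup.closure_induction with
  | mem x hx =>
    apply Subgroup.subset_closure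
    intro ω hω
    apply hx (g⁻¹ • ω)
    have := congrArg (fun y => g⁻¹ • y) hω
    simpa [mul_smul] using this
  | one => simp
  | mul x y _ _ hx hy =>
    have : g * (x * y) * g⁻¹ = (g * x * g⁻¹) * (g * y * g⁻¹) := by group
    rw [this]
    exact Subgroup.mul_mem _ hx hy
  | inv x _ hx =>
    have : g * x⁻¹ * g⁻¹ = (g * x * g⁻¹)⁻¹ := by group
    rw [this]
    exact Subgroup.inv_mem _ hx

theorem one_le_card_fixedBy_of_not_mem [Finite Ω] {g : G} (hg : g ∉ derSub G Ω) :
    1 ≤ Nat.card (fixedBy Ω g) := by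
  by_contra h
  apply hg
  apply Subgroup.subset_closure
  intro ω hω
  apply h
  have : Nonempty (fixedBy Ω g) := ⟨⟨ω, hω⟩⟩
  exact Nat.card_pos

theorem derSub_main [Finite G] [Finite Ω] [IsPretransitive G Ω] [Nonempty Ω] :
    IsPretransitive (derSub G Ω) Ω ∧ ∀ g : G, g ∉ derSub G Ω → Nat.card (fixedBy Ω g) = 1 := by
  classical
  have := Fintype.ofFinite G
  have hG := burnside_card (G := G) (Ω := Ω)
  have hD := burnside_card_subgroup (Ω := Ω) (derSub G Ω)
  have hq : Nat.card (orbitRel.Quotient G Ω) = 1 := by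
    have h1 : Subsingleton (orbitRel.Quotient G Ω) :=
      (pretransitive_iff_subsingleton_quotient G Ω).mp inferInstance
    have h2 : Nonempty (orbitRel.Quotient G Ω) := ⟨Quotient.mk'' (Classical.arbitrary Ω)⟩
    exact Nat.card_eq_one_iff_unique.mpr ⟨h1, h2⟩
  have hd : 1 ≤ Nat.card (orbitRel.Quotient (derSub G Ω) Ω) := by
    have h2 : Nonempty (orbitRel.Quotient (derSub G Ω) Ω) :=
      ⟨Quotient.mk'' (Classical.arbitrary Ω)⟩
    exact Nat.card_pos
  have hsplit := Finset.sum_filter_add_sum_filter_not Finset.univ (· ∈ derSub G Ω)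
    (fun g => Nat.card (fixedBy Ω g))
  have hcard := Finset.card_filter_add_card_filter_not (s := (Finset.univ : Finset G))
    (· ∈ derSub G Ω)
  have hcD : (Finset.univ.filter (· ∈ derSub G Ω)).card = Nat.card (derSub G Ω) := by
    rw [Nat.card_eq_fintype_card, Fintype.card_subtype]
  have hge : ∑ g ∈ Finset.univ.filter (fun g => ¬ g ∈ derSub G Ω), 1 ≤
      ∑ g ∈ Finset.univ.filter (fun g => ¬ g ∈ derSub G Ω), Nat.card (fixedBy Ω g) := by
    apply Finset.sum_le_sum
    intro g hg
    exact one_le_card_fixedBy_of_not_mem (Finset.mem_filter.mp hg).2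
  rw [hD, hG, hq, one_mul] at hsplit
  rw [hcD, Finset.card_univ, ← Nat.card_eq_fintype_card] at hcard
  have hDpos : 0 < Nat.card (derSub G Ω) := Nat.card_pos
  simp only [Finset.sum_const, smul_eq_mul, mul_one] at hge
  have hmul : Nat.card (derSub G Ω) ≤
      Nat.card (orbitRel.Quotient (derSub G Ω) Ω) * Nat.card (derSub G Ω) :=
    Nat.le_mul_of_pos_left _ hd
  have hd1 : Nat.card (orbitRel.Quotient (derSub G Ω) Ω) * Nat.card (derSub G Ω) =
      Nat.card (derSub G Ω) := by omega
  have hd2 : Nat.card (orbitRel.Quotient (derSub G Ω) Ω) = 1 := by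
    have := Nat.eq_of_mul_eq_mul_right hDpos (hd1.trans (one_mul _).symm)
    exact this
  constructor
  · rw [pretransitive_iff_subsingleton_quotient]
    exact (Nat.card_eq_one_iff_unique.mp hd2).1
  · have heq : ∑ g ∈ Finset.univ.filter (fun g => ¬ g ∈ derSub G Ω), 1 =
      ∑ g ∈ Finset.univ.filter (fun g => ¬ g ∈ derSub G Ω), Nat.card (fixedBy Ω g) := by
      simp only [Finset.sum_const, smul_eq_mul, mul_one]
      omega
    have := (Finset.sum_eq_sum_iff_of_le (fun g hg =>
      one_le_card_fixedBy_of_not_mem (Finset.mem_filter.mp hg).2)).mp heq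
    intro g hg
    exact (this g (Finset.mem_filter.mpr ⟨Finset.mem_univ _, hg⟩)).symm

end Cfsg.Agent.Lib.Helper63
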