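import Mathlib
import Cfsg.Agent.Lib.Helper28.Radical

/-!
Group-theoretic ingredients of Kazarin's theorem on elements with a conjugacy class of
prime power size.
-/

namespace Cfsg.Agent.Lib.Helper63

open scoped Pointwise

section
variable {G : Type*} [Group G]

/-- `|N : N ∩ C|` divides `|G : C|` for `N` normal. -/
theorem relIndex_dvd_index_of_normal_right [Finite G] (C N : Subgroup G) [N.Normal] :
    C.relIndex N ∣ C.index := by
  have h1 : (C ⊓ N).relIndex N * N.index = (C ⊓ N).index :=
    Subgroup.relIndex_mul_index inf_le_right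
  have h2 : (C ⊓ N).relIndex C * C.index = (C ⊓ N).index :=
    Subgroup.relIndex_mul_index inf_le_left
  rw [Subgroup.inf_relIndex_right] at h1
  rw [Subgroup.inf_relIndex_left] at h2
  obtain ⟨e, he⟩ := Subgroup.relIndex_dvd_index_of_normal N C
  have h3 : N.relIndex C ≠ 0 := Subgroup.FiniteIndex.index_ne_zero
  refine ⟨e, ?_⟩
  rw [he, ← h2] at h1
  have h4 : N.relIndex C * (C.relIndex N * e) = N.relIndex C * C.index := by
    rw [← h1]; ring
  exact (Nat.eq_of_mul_eq_mul_left (Nat.pos_of_ne_zero h3) h4).symm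

theorem exists_mul_of_index_pow {p k : ℕ} [hp : Fact p.Prime] [Finite G] (C : Subgroup G)
    (hC : C.index = p ^ k) (P : Sylow p G) (g : G) :
    ∃ u ∈ P, ∃ c ∈ C, g = u * c := by
  classical
  have hcop : Nat.Coprime C.index (P : Subgroup G).index := by
    rw [hC]
    apply Nat.Coprime.pow_left
    rw [Nat.Prime.coprime_iff_not_dvd hp.out]
    exact P.not_dvd_index
  have h0 : (C ⊓ (P : Subgroup G)).index ≠ 0 := Subgroup.FiniteIndex.index_ne_zero
  have h1 : (C ⊓ (P : Subgroup G)).index = C.index * (P : Subgroup G).index := by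
    apply le_antisymm Subgroup.index_inf_le
    apply Nat.le_of_dvd (Nat.pos_of_ne_zero h0)
    exact Nat.Coprime.mul_dvd_of_dvd_of_dvd hcop (Subgroup.index_dvd_of_le inf_le_left)
      (Subgroup.index_dvd_of_le inf_le_right)
  have h2 : (C ⊓ (P : Subgroup G)).relIndex P * (P : Subgroup G).index
      = (C ⊓ (P : Subgroup G)).index := Subgroup.relIndex_mul_index inf_le_right
  rw [Subgroup.inf_relIndex_right, h1] at h2
  have h3 : C.relIndex P = C.index :=
    Nat.eq_of_mul_eq_mul_right (Nat.pos_of_ne_zero Subgroup.FiniteIndex.index_ne_zero) h2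
  let a : G ⧸ C := ((1 : G) : G ⧸ C)
  have hst : MulAction.stabilizer (P : Subgroup G) a = C.subgroupOf P := by
    ext u
    rw [MulAction.mem_stabilizer_iff, Subgroup.mem_subgroupOf]
    change (((u : G) * 1 : G) : G ⧸ C) = ((1 : G) : G ⧸ C) ↔ _
    rw [QuotientGroup.eq]
    simp
  have hcard : (MulAction.orbit (P : Subgroup G) a).ncard = Nat.card (G ⧸ C) := by
    rw [← MulAction.index_stabilizer, hst]
    exact h3
  have huniv : MulAction.orbit (P : Subgroup G) a = Set.univ :=
    (Set.eq_univ_iff_ncard _).2 hcard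
  have hg : ((g : G) : G ⧸ C) ∈ MulAction.orbit (P : Subgroup G) a := by
    rw [huniv]; exact Set.mem_univ _
  obtain ⟨u, hu⟩ := hg
  have hu' : (((u : G) * 1 : G) : G ⧸ C) = ((g : G) : G ⧸ C) := hu
  rw [QuotientGroup.eq] at hu'
  refine ⟨u, u.2, _, hu', ?_⟩
  group

theorem mem_of_forall_prime_pow_mem [Finite G] (R : Subgroup G) (x : G)
    (h : ∀ y : G, y ∈ Subgroup.zpowers x → (∃ q b : ℕ, q.Prime ∧ orderOf y = q ^ b) → y ∈ R) :
    x ∈ R := by
  classical
  set K : Subgroup (Subgroup.zpowers x) := R.subgroupOf (Subgroup.zpowers x) with hK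
  have hidx : K.index = 1 := by
    by_contra hne
    obtain ⟨q, hq, hqd⟩ := Nat.exists_prime_and_dvd hne
    haveI := Fact.mk hq
    let P : Sylow q (Subgroup.zpowers x) := default
    have hPK : (P : Subgroup (Subgroup.zpowers x)) ≤ K := by
      intro y hy
      rw [hK, Subgroup.mem_subgroupOf]
      apply h _ y.2
      obtain ⟨n, hn⟩ := P.2 ⟨y, hy⟩
      have hn' : y ^ q ^ n = 1 := by
        have := congrArg Subtype.val hn
        simpa using this
      obtain ⟨b, -, hb⟩ := (Nat.dvd_prime_pow hq).1 (orderOf_dvd_of_pow_eq_one hn')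
      exact ⟨q, b, hq, by rw [Subgroup.orderOf_coe]; exact hb⟩
    exact P.not_dvd_index (hqd.trans (Subgroup.index_dvd_of_le hPK))
  have htop : K = ⊤ := Subgroup.index_eq_one.1 hidx
  have hx : (⟨x, Subgroup.mem_zpowers x⟩ : Subgroup.zpowers x) ∈ K := by
    rw [htop]; exact Subgroup.mem_top _
  rw [hK, Subgroup.mem_subgroupOf] at hx
  exact hx

theorem conj_eq_of_mem_centralizer {x u c : G} (hc : c ∈ Subgroup.centralizer ({x} : Set G)) :
    (u * c) * x * (u * c)⁻¹ = u * x * u⁻¹ := by
  rw [Subgroup.mem_centralizer_singleton_iff] at hc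
  have : c * x * c⁻¹ = x := by rw [hc, mul_inv_cancel_right]
  calc (u * c) * x * (u * c)⁻¹ = u * (c * x * c⁻¹) * u⁻¹ := by group
    _ = u * x * u⁻¹ := by rw [this]

theorem normalClosure_singleton_le {x : G} {H : Subgroup G} (h : ∀ g : G, g * x * g⁻¹ ∈ H) :
    Subgroup.normalClosure ({x} : Set G) ≤ H := by
  rw [Subgroup.normalClosure, Subgroup.closure_le]
  intro y hy
  rw [Group.mem_conjugatesOfSet_iff] at hy
  obtain ⟨a, ha, hay⟩ := hy
  rw [Set.mem_singleton_iff] at ha
  subst ha
  rw [isConj_iff] at hay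
  obtain ⟨c, rfl⟩ := hay
  exact h c

/-- `p`-element with class of `p`-power size: normal closure is a `p`-group. -/
theorem normalClosure_isPGroup {p k b : ℕ} [hp : Fact p.Prime] [Finite G] (x : G)
    (hx : (Subgroup.centralizer ({x} : Set G)).index = p ^ k) (ho : orderOf x = p ^ b) :
    IsPGroup p (Subgroup.normalClosure ({x} : Set G)) := by
  have hz : IsPGroup p (Subgroup.zpowers x) := by
    apply IsPGroup.of_card (n := b)
    rw [Nat.card_zpowers, ho]
  obtain ⟨P, hP⟩ := hz.exists_le_sylow
  have hle : Subgroup.normalClosure ({x} : Set G) ≤ P := by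
    apply normalClosure_singleton_le
    intro g
    obtain ⟨u, hu, c, hc, rfl⟩ := exists_mul_of_index_pow _ hx P g
    rw [conj_eq_of_mem_centralizer hc]
    exact mul_mem (mul_mem hu (hP (Subgroup.mem_zpowers x))) (inv_mem hu)
  exact P.2.to_le hle

/-- The coprime part of Kazarin's argument. -/
theorem solvable_of_coprime_commutator {p q k b : ℕ} (hp : p.Prime) (hq : q.Prime)
    [Finite G] (x : G)
    (hx : (Subgroup.centralizer ({x} : Set G)).index = p ^ k) (ho : orderOf x = q ^ b)
    (hn : Subgroup.normalClosure ({x} : Set G) = ⊤) (hD : ¬ q ∣ Nat.card (commutator G)) :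
    Group.IsSolvable G := by
  classical
  have := Fact.mk hp
  have := Fact.mk hq
  set D : Subgroup G := commutator G with hDdef
  have hDn : D.Normal := inferInstance
  -- an `x`-invariant Sylow `p`-subgroup of `D`
  let Z : Subgroup (ConjAct G) := Subgroup.zpowers (ConjAct.toConjAct x)
  have hZ : IsPGroup q Z := by
    apply IsPGroup.of_card (n := b)
    rw [Nat.card_zpowers]
    rw [← ho]
    exact orderOf_injective (ConjAct.toConjAct (G := G)).toMonoidHom
      (ConjAct.toConjAct (G := G)).injective x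
  have hcard : ¬ q ∣ Nat.card (Sylow p D) := by
    intro h
    apply hD
    let P0 : Sylow p D := default
    exact h.trans ((Sylow.card_dvd_index P0).trans (Subgroup.index_dvd_card _))
  obtain ⟨P, hP⟩ := hZ.nonempty_fixed_point_of_prime_not_dvd_card (Sylow p D) hcard
  have hPx : ConjAct.toConjAct x • P = P :=
    hP ⟨ConjAct.toConjAct x, Subgroup.mem_zpowers _⟩
  have hinv : ∀ u : D, u ∈ P → ∃ v : D, v ∈ P ∧ (v : G) = x * u * x⁻¹ := by
    intro u hu
    refine ⟨ConjAct.toConjAct x • u, ?_, ?_⟩
    · have h1 : ConjAct.toConjAct x • u ∈ ConjAct.toConjAct x • (P : Subgroup D) :=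
        Subgroup.smul_mem_pointwise_smul _ _ _ hu
      rw [← Sylow.pointwise_smul_def, hPx] at h1
      exact h1
    · rw [ConjAct.Subgroup.val_conj_smul, ConjAct.toConjAct_smul]
  set P' : Subgroup G := (P : Subgroup D).map D.subtype with hP'
  have hmemP' : ∀ u : G, u ∈ P' → x * u * x⁻¹ ∈ P' := by
    intro u hu
    rw [hP', Subgroup.mem_map] at hu
    obtain ⟨u', hu', rfl⟩ := hu
    obtain ⟨v, hv, hvx⟩ := hinv u' hu'
    rw [hP', Subgroup.mem_map]
    exact ⟨v, hv, hvx⟩
  -- `G = D ⟨x⟩`
  have hsup : D ⊔ Subgroup.zpowers x = ⊤ := by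
    rw [eq_top_iff, ← hn]
    apply normalClosure_singleton_le
    intro g
    have h1 : g * x * g⁻¹ * x⁻¹ ∈ D := by
      rw [hDdef, commutator_def]
      exact Subgroup.commutator_mem_commutator (Subgroup.mem_top g) (Subgroup.mem_top x)
    have h2 : g * x * g⁻¹ = (g * x * g⁻¹ * x⁻¹) * x := by group
    rw [h2]
    exact mul_mem (Subgroup.mem_sup_left h1) (Subgroup.mem_sup_right (Subgroup.mem_zpowers x))
  -- conjugates of `x`
  obtain ⟨j, -, hj⟩ := (Nat.dvd_prime_pow hp).1
    (hx ▸ relIndex_dvd_index_of_normal_right (Subgroup.centralizer ({x} : Set G)) D)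
  have hconj : ∀ g : G, ∃ u ∈ P', g * x * g⁻¹ = u * x * u⁻¹ := by
    intro g
    have hg : g ∈ D ⊔ Subgroup.zpowers x := by rw [hsup]; exact Subgroup.mem_top g
    rw [Subgroup.mem_sup_of_normal_left] at hg
    obtain ⟨d, hd, z, hz, rfl⟩ := hg
    have hzc : z ∈ Subgroup.centralizer ({x} : Set G) := by
      rw [Subgroup.mem_centralizer_singleton_iff]
      obtain ⟨i, rfl⟩ := Subgroup.mem_zpowers_iff.1 hz
      exact ((Commute.refl x).zpow_left i).eq
    rw [conj_eq_of_mem_centralizer hzc]
    obtain ⟨u, hu, c, hc, hdu⟩ := exists_mul_of_index_pow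
      ((Subgroup.centralizer ({x} : Set G)).subgroupOf D) hj P ⟨d, hd⟩
    rw [Subgroup.mem_subgroupOf] at hc
    have hd' : d = (u : G) * (c : G) := by
      have := congrArg Subtype.val hdu
      simpa using this
    rw [hd', conj_eq_of_mem_centralizer hc]
    exact ⟨u, by rw [hP', Subgroup.mem_map]; exact ⟨u, hu, rfl⟩, rfl⟩
  -- `P'` is normal
  have hxN : x ∈ Subgroup.normalizer (P' : Set G) := by
    rw [Subgroup.mem_normalizer_iff]
    intro u
    refine ⟨hmemP' u, ?_⟩
    intro hu
    -- conjugation by `x` is an injective self-map of the finite set `P'`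
    let f : P' → P' := fun v => ⟨x * v * x⁻¹, hmemP' v v.2⟩
    have hf : Function.Injective f := by
      intro v w hvw
      have := congrArg Subtype.val hvw
      simp only [f] at this
      apply Subtype.ext
      simpa using this
    obtain ⟨v, hv⟩ := (Finite.injective_iff_surjective.1 hf) ⟨_, hu⟩
    have := congrArg Subtype.val hv
    simp only [f] at this
    have h3 : (v : G) = u := by simpa using this
    rw [← h3]; exact v.2
  have hnorm : P'.Normal := by
    rw [← Subgroup.normalizer_eq_top_iff, eq_top_iff, ← hn]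
    apply normalClosure_singleton_le
    intro g
    obtain ⟨u, hu, hgu⟩ := hconj g
    rw [hgu]
    have huN : u ∈ Subgroup.normalizer (P' : Set G) := Subgroup.le_normalizer hu
    exact mul_mem (mul_mem huN hxN) (inv_mem huN)
  have htop : Subgroup.zpowers x ⊔ P' = ⊤ := by
    rw [eq_top_iff, ← hn]
    apply normalClosure_singleton_le
    intro g
    obtain ⟨u, hu, hgu⟩ := hconj g
    rw [hgu]
    have hu' : u ∈ Subgroup.zpowers x ⊔ P' := Subgroup.mem_sup_right hu
    exact mul_mem (mul_mem hu' (Subgroup.mem_sup_left (Subgroup.mem_zpowers x))) (inv_mem hu')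
  have hs1 : Group.IsSolvable (Subgroup.zpowers x) := inferInstance
  have hs2 : Group.IsSolvable P' := by
    have hPg : IsPGroup p P' := P.2.map _
    have : Group.IsNilpotent P' := hPg.isNilpotent
    infer_instance
  have hs3 := Cfsg.Agent.Lib.Helper28.isSolvable_sup_of_normal (Subgroup.zpowers x) P' hs1 hs2
  rw [htop] at hs3
  exact Group.isSolvable_of_surjective (f := (Subgroup.topEquiv (G := G)).toMonoidHom)
    (Subgroup.topEquiv (G := G)).surjective

end

end Cfsg.Agent.Lib.Helper63
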