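import Mathlib
import Cfsg.Agent.Lib.Helper81.BlockOrth
import Cfsg.Agent.Lib.Helper78.DefectZero
import Cfsg.Agent.Lib.Helper80.BlockBasic
import Cfsg.Agent.Lib.Helper83.Basic
import Cfsg.Agent.Lib.Helper4.CharIntegral
import Cfsg.Agent.Lib.Helper4.CharDecomp
import Cfsg.Agent.S0138
import Cfsg.Agent.S0140
import Cfsg.Agent.S0142
import Cfsg.Agent.Lib.Helper63.Kazarin1

/-!
Character-theoretic ingredient of Kazarin's theorem: principal `q`-block argument.
-/

set_option autoImplicit false
open Cfsg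
open scoped ComplexConjugate

namespace Cfsg.Agent.Lib.Helper63

section
variable {G : Type*} [Group G]

/-- elements acting as scalars form a subgroup -/
def scalarSubgroup {V : Type*} [AddCommGroup V] [Module ℂ V] (ρ : Representation ℂ G V) :
    Subgroup G where
  carrier := {g | ∃ c : ℂ, ρ g = c • LinearMap.id}
  one_mem' := ⟨1, by rw [map_one, one_smul]; rfl⟩
  mul_mem' := by
    rintro a b ⟨c, hc⟩ ⟨d, hd⟩
    refine ⟨c * d, ?_⟩
    rw [map_mul, hc, hd]
    ext v
    simp [mul_smul, smul_comm c d v]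
  inv_mem' := by
    rintro a ⟨c, hc⟩
    have h1 : ρ a⁻¹ * ρ a = 1 := by rw [← map_mul, inv_mul_cancel, map_one]
    rw [hc] at h1
    have h2 : c • ρ a⁻¹ = 1 := by
      rw [← h1]
      ext v
      simp
    by_cases hc0 : c = 0
    · refine ⟨0, ?_⟩
      rw [hc0, zero_smul] at h2
      rw [zero_smul]
      calc ρ a⁻¹ = ρ a⁻¹ * 1 := (mul_one _).symm
        _ = 0 := by rw [← h2, mul_zero]
    · refine ⟨c⁻¹, ?_⟩
      calc ρ a⁻¹ = c⁻¹ • (c • ρ a⁻¹) := by rw [smul_smul, inv_mul_cancel₀ hc0, one_smul]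
        _ = c⁻¹ • LinearMap.id := by rw [h2]; rfl

theorem scalarSubgroup_eq_top {V : Type*} [AddCommGroup V] [Module ℂ V]
    (ρ : Representation ℂ G V) (x : G) (hn : Subgroup.normalClosure ({x} : Set G) = ⊤)
    (hx : ∃ c : ℂ, ρ x = c • LinearMap.id) : ∀ g : G, ∃ c : ℂ, ρ g = c • LinearMap.id := by
  have h : Subgroup.normalClosure ({x} : Set G) ≤ scalarSubgroup ρ := by
    apply normalClosure_singleton_le
    intro g
    obtain ⟨c, hc⟩ := hx
    refine ⟨c, ?_⟩
    rw [map_mul, map_mul, hc]
    have h1 : ρ g * ρ g⁻¹ = 1 := by rw [← map_mul, mul_inv_cancel, map_one]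
    calc ρ g * c • LinearMap.id * ρ g⁻¹ = c • (ρ g * ρ g⁻¹) := by
          ext v
          simp
      _ = c • LinearMap.id := by rw [h1]; rfl
  intro g
  exact h (by rw [hn]; exact Subgroup.mem_top g)

end

section
variable {G : Type*} [Group G] [Finite G]

/-- an irreducible representation in which everything is scalar has degree one -/
theorem degree_one_of_scalar {n : ℕ} (ρ : Representation ℂ G (Fin n → ℂ)) (hρ : ρ.IsIrreducible)
    (h : ∀ g : G, ∃ c : ℂ, ρ g = c • LinearMap.id) : n = 1 := by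
  classical
  have := Fintype.ofFinite G
  have h2 : ∀ g : G, ‖ρ.character g‖ = (n : ℝ) := by
    intro g
    have := (Cfsg.Agent.S0138.result ρ g).2 (h g)
    rwa [Module.finrank_fin_fun] at this
  have h3 := Cfsg.Agent.Lib.Helper4.classInner_irr_self
    (Cfsg.Agent.Lib.Helper4.isIrrCharacter_of_rep ρ)
  rw [Cfsg.Agent.Lib.Helper4.classInner_self_eq] at h3
  simp only [h2, Finset.sum_const, Finset.card_univ, nsmul_eq_mul] at h3
  have h4 : ((Nat.card G : ℝ)⁻¹ * ((Fintype.card G : ℝ) * (n : ℝ) ^ 2)) = 1 := by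
    exact_mod_cast h3
  rw [← Nat.card_eq_fintype_card, ← mul_assoc, inv_mul_cancel₀
    (by exact_mod_cast Nat.card_pos.ne'), one_mul] at h4
  have h5 : n ^ 2 = 1 := by exact_mod_cast h4
  exact (Nat.pow_eq_one.1 h5).resolve_right (by norm_num)

end

section
variable {G : Type*} [Group G] [Finite G]

/-- the irreducible character attached to a linear character -/
noncomputable def linIrr (l : G →* ℂˣ) : IrrCharacter G :=
  ⟨fun g => ((l g : ℂˣ) : ℂ), Cfsg.Agent.Lib.Helper83.isIrr_of_hom l⟩

theorem linIrr_injective : Function.Injective (linIrr (G := G)) := by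
  intro l m h
  have h1 := congrArg Subtype.val h
  ext g
  exact congrFun h1 g

theorem hom_pow_eq_one {q b : ℕ} (x : G) (ho : orderOf x = q ^ b)
    (hn : Subgroup.normalClosure ({x} : Set G) = ⊤) (l : G →* ℂˣ) : l ^ (q ^ b) = 1 := by
  have h : Subgroup.normalClosure ({x} : Set G) ≤ (l ^ (q ^ b)).ker := by
    apply Subgroup.normalClosure_le_normal
    rw [Set.singleton_subset_iff]
    change x ∈ (l ^ (q ^ b)).ker
    rw [MonoidHom.mem_ker, MonoidHom.pow_apply, ← map_pow, ← ho, pow_orderOf_eq_one, map_one]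
  ext g
  have hg : g ∈ (l ^ (q ^ b)).ker := h (by rw [hn]; exact Subgroup.mem_top g)
  rw [MonoidHom.mem_ker] at hg
  rw [hg]; rfl

theorem linIrr_mem_principalBlock {q b : ℕ} {M : Ideal AlgInt} (hM : IsPModular q M)
    (l : G →* ℂˣ) (hl : l ^ (q ^ b) = 1) : linIrr l ∈ principalBlock M G := by
  intro g
  rw [Cfsg.Agent.Lib.Helper80.centralChar_one_fun]
  have h1 : ((l g : ℂˣ) : ℂ) ^ (q ^ b) = 1 := by
    have := congrArg (fun m : G →* ℂˣ => ((m g : ℂˣ) : ℂ)) hl
    simpa using this
  have h2 := Cfsg.Agent.Lib.Helper81.memLocalIdeal_sub_one_of_pow_eq_one hM h1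
  have h3 : ((Subgroup.centralizer ({g} : Set G)).index : ℂ)
      - centralChar ((linIrr l : IrrCharacter G) : G → ℂ) g
      = ((Subgroup.centralizer ({g} : Set G)).index : ℂ) * (-(((l g : ℂˣ) : ℂ) - 1)) := by
    simp only [centralChar, linIrr, map_one, Units.val_one, div_one]
    ring
  rw [h3]
  exact Cfsg.Agent.Lib.Helper81.memLocalIdeal_mul_left hM
    (Cfsg.Agent.Lib.Helper81.memLocalRing_natCast hM _)
    (Cfsg.Agent.Lib.Helper81.memLocalIdeal_neg h2)

theorem hom_commutator_eq_one (l : G →* ℂˣ) (y : G) (hy : y ∈ commutator G) : l y = 1 := by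
  have h : commutator G ≤ l.ker := by
    rw [commutator_def, Subgroup.commutator_le]
    intro a _ b _
    rw [MonoidHom.mem_ker, commutatorElement_def, map_mul, map_mul, map_mul, map_inv, map_inv]
    rw [mul_comm (l a) (l b), mul_assoc (l b), mul_inv_cancel, mul_one, mul_inv_cancel]
  exact MonoidHom.mem_ker.1 (h hy)

theorem ne_zero_of_mem_principalBlock {p q k : ℕ} (hp : p.Prime) (hpq : p ≠ q)
    {M : Ideal AlgInt} (hM : IsPModular q M) (x : G)
    (hx : (Subgroup.centralizer ({x} : Set G)).index = p ^ k) (χ : IrrCharacter G)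
    (hχ : χ ∈ principalBlock M G) : (χ : G → ℂ) x ≠ 0 := by
  intro h0
  have h1 := hχ x
  rw [Cfsg.Agent.Lib.Helper80.centralChar_one_fun, hx] at h1
  have h2 : centralChar (χ : G → ℂ) x = 0 := by
    simp [centralChar, h0]
  rw [h2, sub_zero, Cfsg.Agent.Lib.Helper81.memLocalIdeal_natCast_iff hM] at h1
  have h3 := hM.1.dvd_of_dvd_pow h1
  exact hpq ((Nat.prime_dvd_prime_iff_eq hM.1 hp).1 h3).symm

/-- a character in the principal `q`-block of degree prime to `p` is linear -/
theorem exists_hom_of_mem_principalBlock {p q k : ℕ} (hp : p.Prime) (hpq : p ≠ q)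
    {M : Ideal AlgInt} (hM : IsPModular q M) (x : G)
    (hx : (Subgroup.centralizer ({x} : Set G)).index = p ^ k)
    (hn : Subgroup.normalClosure ({x} : Set G) = ⊤) (χ : IrrCharacter G)
    (hχ : χ ∈ principalBlock M G) {n : ℕ} (ρ : Representation ℂ G (Fin n → ℂ))
    (hρ : ρ.IsIrreducible) (hχρ : ρ.character = (χ : G → ℂ)) (hpn : ¬ p ∣ n) :
    ∃ l : G →* ℂˣ, linIrr l = χ := by
  classical
  have hne := ne_zero_of_mem_principalBlock hp hpq hM x hx χ hχ
  have hcop : Nat.Coprime (Module.finrank ℂ (Fin n → ℂ))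
      (Subgroup.centralizer ({x} : Set G)).index := by
    rw [Module.finrank_fin_fun, hx]
    exact Nat.Coprime.pow_right k ((Nat.Prime.coprime_iff_not_dvd hp).mpr hpn).symm
  have hsc : ∃ c : ℂ, ρ x = c • LinearMap.id := by
    rcases Cfsg.Agent.S0142.result ρ x hcop with h0 | h0
    · rw [hχρ] at h0; exact (hne h0).elim
    · exact (Cfsg.Agent.S0138.result ρ x).mp h0
  have hall := scalarSubgroup_eq_top ρ x hn hsc
  have hn1 : n = 1 := degree_one_of_scalar ρ hρ hall
  subst hn1
  have hval : ∀ g : G, ∀ c : ℂ, ρ g = c • LinearMap.id → (χ : G → ℂ) g = c := by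
    intro g c hc
    rw [← hχρ, Representation.character, hc, map_smul]
    have : LinearMap.trace ℂ (Fin 1 → ℂ) LinearMap.id = 1 := by
      have := LinearMap.trace_one ℂ (Fin 1 → ℂ)
      rw [Module.finrank_fin_fun] at this
      simpa using this
    rw [this, smul_eq_mul, mul_one]
  let f : G →* ℂ :=
    { toFun := (χ : G → ℂ)
      map_one' := hval 1 1 (by rw [map_one, one_smul]; rfl)
      map_mul' := by
        intro a b
        obtain ⟨c, hc⟩ := hall a
        obtain ⟨d, hd⟩ := hall b
        rw [hval a c hc, hval b d hd]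
        apply hval
        rw [map_mul, hc, hd]
        ext v
        simp [mul_smul, smul_comm c d] }
  refine ⟨f.toHomUnits, ?_⟩
  apply Subtype.ext
  funext g
  rfl

end

section
variable {G : Type*} [Group G] [Finite G]

theorem not_dvd_card_commutator {p q k b : ℕ} (hp : p.Prime) (hq : q.Prime) (hpq : p ≠ q) (x : G)
    (hx : (Subgroup.centralizer ({x} : Set G)).index = p ^ k) (ho : orderOf x = q ^ b)
    (hn : Subgroup.normalClosure ({x} : Set G) = ⊤) : ¬ q ∣ Nat.card (commutator G) := by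
  classical
  intro hdvd
  have := Fintype.ofFinite G
  have := Fact.mk hq
  have := Cfsg.Agent.Lib.Helper4.finite_irrCharacter (G := G)
  have := Fintype.ofFinite (IrrCharacter G)
  obtain ⟨y, hy⟩ := exists_prime_orderOf_dvd_card' (G := commutator G) q hdvd
  have hyG : orderOf (y : G) = q := by rw [Subgroup.orderOf_coe]; exact hy
  obtain ⟨M, hM⟩ := Cfsg.Agent.Lib.Helper78.exists_isPModular hq
  have hpp1 : IsPPart q (y : G) (y : G) :=
    ⟨1, mul_one _, Commute.one_right _, ⟨1, by rw [hyG, pow_one]⟩, by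
      rw [orderOf_one]; exact hq.one_lt.ne' ∘ Nat.dvd_one.1⟩
  have hpp2 : IsPPart q (1 : G) (1 : G) :=
    ⟨1, mul_one _, Commute.one_right _, ⟨0, by rw [orderOf_one, pow_zero]⟩, by
      rw [orderOf_one]; exact hq.one_lt.ne' ∘ Nat.dvd_one.1⟩
  have hnc : ¬ IsConj (y : G) (1 : G) := by
    intro h
    have h1 : (y : G) = 1 := isConj_one_left.1 h
    rw [h1, orderOf_one] at hyG
    exact hq.one_lt.ne hyG
  have horth := Cfsg.Agent.Lib.Helper81.block_orth hM (principalBlock M G)
    (Cfsg.Agent.Lib.Helper80.isPBlock_principal M) hpp1 hpp2 hnc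
  rw [Cfsg.Agent.Lib.Helper81.finsum_mem_irr] at horth
  -- the group of linear characters
  have hLp : IsPGroup q (G →* ℂˣ) := fun l => ⟨b, hom_pow_eq_one x ho hn l⟩
  have hLfin : Finite (G →* ℂˣ) := Finite.of_injective _ (linIrr_injective (G := G))
  have := Fintype.ofFinite (G →* ℂˣ)
  obtain ⟨c, hc⟩ := hLp.exists_card_eq
  let A : Finset (IrrCharacter G) := Finset.univ.map ⟨linIrr, linIrr_injective⟩
  have hAcard : A.card = q ^ c := by
    rw [Finset.card_map, Finset.card_univ, ← Nat.card_eq_fintype_card, hc]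
  let F : IrrCharacter G → ℂ := fun χ =>
    if χ ∈ principalBlock M G then (χ : G → ℂ) (y : G) * conj ((χ : G → ℂ) 1) else 0
  have hFA : ∀ χ ∈ A, F χ = 1 := by
    intro χ hχ
    rw [Finset.mem_map] at hχ
    obtain ⟨l, -, rfl⟩ := hχ
    have hmem : linIrr l ∈ principalBlock M G :=
      linIrr_mem_principalBlock hM l (hom_pow_eq_one x ho hn l)
    simp only [F, Function.Embedding.coeFn_mk, if_pos hmem]
    simp [linIrr, hom_commutator_eq_one l y y.2]
  have key : ∀ χ : IrrCharacter G, χ ∉ A → ∃ β : ℂ, IsIntegral ℤ β ∧ F χ = (p : ℂ) * β := by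
    intro χ hχ
    by_cases hB : χ ∈ principalBlock M G
    · obtain ⟨n, ρ, hρ, hχρ⟩ := χ.2
      have h1 : (χ : G → ℂ) 1 = (n : ℂ) := by
        rw [← hχρ, Representation.char_one, Module.finrank_fin_fun]
      by_cases hpn : p ∣ n
      · obtain ⟨m, rfl⟩ := hpn
        refine ⟨(m : ℂ) * (χ : G → ℂ) (y : G), ?_, ?_⟩
        · rw [← hχρ]
          exact (isIntegral_algebraMap (R := ℤ) (x := (m : ℤ))).mul
            (Cfsg.Agent.S0140.result ρ (y : G))
        · simp only [F, if_pos hB]
          rw [h1]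
          simp only [map_natCast]
          push_cast
          ring
      · exfalso
        obtain ⟨l, hl⟩ := exists_hom_of_mem_principalBlock hp hpq hM x hx hn χ hB ρ hρ hχρ hpn
        apply hχ
        rw [Finset.mem_map]
        exact ⟨l, Finset.mem_univ _, hl⟩
    · exact ⟨0, isIntegral_zero, by simp only [F, if_neg hB, mul_zero]⟩
  choose! β hβ1 hβ2 using key
  have hsplit : ∑ χ, F χ = ∑ χ ∈ A, F χ + ∑ χ ∈ Aᶜ, F χ := (Finset.sum_add_sum_compl A F).symm
  have hs1 : ∑ χ ∈ A, F χ = (q ^ c : ℕ) := by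
    rw [Finset.sum_congr rfl hFA, Finset.sum_const, hAcard, nsmul_eq_mul, mul_one]
  have hs2 : ∑ χ ∈ Aᶜ, F χ = (p : ℂ) * ∑ χ ∈ Aᶜ, β χ := by
    rw [Finset.mul_sum]
    refine Finset.sum_congr rfl fun χ hχ => ?_
    exact hβ2 χ (Finset.mem_compl.1 hχ)
  have h0 : ∑ χ, F χ = 0 := horth
  rw [hsplit, hs1, hs2] at h0
  have h3 : IsIntegral ℤ (∑ χ ∈ Aᶜ, β χ) :=
    IsIntegral.sum _ fun χ hχ => hβ1 χ (Finset.mem_compl.1 hχ)
  have hp0 : (p : ℂ) ≠ 0 := by exact_mod_cast hp.ne_zero
  have h4 : ((q ^ c : ℕ) : ℂ) / (p : ℂ) = - ∑ χ ∈ Aᶜ, β χ := by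
    field_simp
    linear_combination h0
  have h5 : IsIntegral ℤ (((q ^ c : ℕ) : ℂ) / (p : ℂ)) := by rw [h4]; exact h3.neg
  have h6 := Cfsg.Agent.Lib.Helper4.dvd_of_isIntegral_div hp.ne_zero h5
  exact hpq ((Nat.prime_dvd_prime_iff_eq hp hq).1 (hp.dvd_of_dvd_pow h6))

end

section
universe u

/-- **Kazarin's theorem**, radical form. -/
theorem kazarin_mem_rad {p : ℕ} (hp : p.Prime) : ∀ (n : ℕ) (G : Type u) [Group G] [Finite G],
    Nat.card G = n → ∀ (x : G) (k : ℕ), (Subgroup.centralizer ({x} : Set G)).index = p ^ k →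
    x ∈ Cfsg.Agent.Lib.Helper28.rad (fun (X : Type u) [Group X] => Group.IsSolvable X) G := by
  intro n
  induction n using Nat.strong_induction_on with
  | _ n ih =>
    intro G _ _ hcard x k hx
    have := Fact.mk hp
    have hQ := Cfsg.Agent.Lib.Helper28.radClass_solvable.{u}
    apply mem_of_forall_prime_pow_mem
    rintro y hy ⟨q, b, hq, hyo⟩
    -- the class of `y` has `p`-power size
    have hle : Subgroup.centralizer ({x} : Set G) ≤ Subgroup.centralizer ({y} : Set G) := by
      intro c hc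
      rw [Subgroup.mem_centralizer_singleton_iff] at hc ⊢
      obtain ⟨i, rfl⟩ := Subgroup.mem_zpowers_iff.1 hy
      exact (Commute.zpow_right (show Commute c x from hc) i).eq
    obtain ⟨j, -, hj⟩ := (Nat.dvd_prime_pow hp).1 (hx ▸ Subgroup.index_dvd_of_le hle)
    set N : Subgroup G := Subgroup.normalClosure ({y} : Set G) with hN
    have hyN : y ∈ N := Subgroup.subset_normalClosure (Set.mem_singleton y)
    by_cases htop : N = ⊤
    · -- `G` is solvable
      have hsol : Group.IsSolvable G := by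
        by_cases hpq : p = q
        · subst hpq
          have h1 := normalClosure_isPGroup y hj hyo
          rw [← hN, htop] at h1
          have h2 : IsPGroup p G := h1.of_surjective (Subgroup.topEquiv (G := G)).toMonoidHom
            (Subgroup.topEquiv (G := G)).surjective
          have : Group.IsNilpotent G := h2.isNilpotent
          infer_instance
        · exact solvable_of_coprime_commutator hp hq y hj hyo htop
            (not_dvd_card_commutator hp hq hpq y hj hyo htop)
      rw [Cfsg.Agent.Lib.Helper28.rad_eq_top_of hQ hsol]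
      exact Subgroup.mem_top y
    · have hlt : Nat.card N < n := by
        rw [← hcard]
        by_contra hcon
        exact htop (Subgroup.eq_top_of_le_card N (not_lt.1 hcon))
      have hNn : N.Normal := Subgroup.normalClosure_normal
      have hcen : Subgroup.centralizer ({(⟨y, hyN⟩ : N)} : Set N)
          = (Subgroup.centralizer ({y} : Set G)).subgroupOf N := by
        ext c
        rw [Subgroup.mem_subgroupOf, Subgroup.mem_centralizer_singleton_iff,
          Subgroup.mem_centralizer_singleton_iff, Subtype.ext_iff]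
        rfl
      obtain ⟨i, -, hi⟩ := (Nat.dvd_prime_pow hp).1
        (hj ▸ relIndex_dvd_index_of_normal_right (Subgroup.centralizer ({y} : Set G)) N)
      have h1 := ih (Nat.card N) hlt N rfl ⟨y, hyN⟩ i (by rw [hcen]; exact hi)
      have h2 := Cfsg.Agent.Lib.Helper28.rad_subnormal_le hQ hNn.isSubnormal
      apply h2
      rw [Subgroup.mem_map]
      exact ⟨⟨y, hyN⟩, h1, rfl⟩

/-- **Kazarin's theorem**: an element whose class has prime power size generates a solvable
normal subgroup. -/
theorem kazarin {G : Type u} [Group G] [Finite G] {p : ℕ} (hp : p.Prime) (x : G) (k : ℕ)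
    (hx : (Subgroup.centralizer ({x} : Set G)).index = p ^ k) :
    Group.IsSolvable (Subgroup.normalClosure ({x} : Set G)) := by
  have hQ := Cfsg.Agent.Lib.Helper28.radClass_solvable.{u}
  have h1 := kazarin_mem_rad hp (Nat.card G) G rfl x k hx
  have h2 : Group.IsSolvable
      (Cfsg.Agent.Lib.Helper28.rad (fun (X : Type u) [Group X] => Group.IsSolvable X) G) :=
    Cfsg.Agent.Lib.Helper28.rad_mem hQ
  have h3 : Subgroup.normalClosure ({x} : Set G) ≤
      Cfsg.Agent.Lib.Helper28.rad (fun (X : Type u) [Group X] => Group.IsSolvable X) G := by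
    have := Cfsg.Agent.Lib.Helper28.rad_normal
      (Q := fun (X : Type u) [Group X] => Group.IsSolvable X) (G := G)
    apply Subgroup.normalClosure_le_normal
    rw [Set.singleton_subset_iff]
    exact h1
  exact Group.isSolvable_of_isSolvable_injective (f := Subgroup.inclusion h3)
    (Subgroup.inclusion_injective h3)

end

end Cfsg.Agent.Lib.Helper63
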